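import Mathlib
import Cfsg.Agent.Lib.Helper1.LeechTrans64e

/-!
# A numerical type for vectors of the third layer, invariant under monomial maps
-/

set_option autoImplicit false

namespace Cfsg.Agent.Lib.Helper1.StdCross

open Cfsg Cfsg.Agent.Lib.Helper1.LeechShape Cfsg.Agent.Lib.Helper1.LeechConn

/-- number of coordinates of absolute value `a` -/
def nAbs (x : GolayPt → ℤ) (a : ℤ) : ℕ :=
  (Finset.univ.filter (fun p => x p = a ∨ x p = -a)).card

/-- the type of a vector: a number from 0 to 7 read off from the absolute values of the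
coordinates -/
def typ (x : GolayPt → ℤ) : ℕ :=
  if nAbs x 8 ≠ 0 then 0 else if nAbs x 6 ≠ 0 then 2 else if nAbs x 5 ≠ 0 then 7
  else if nAbs x 3 ≠ 0 then 5 else if nAbs x 4 = 4 then 1 else if nAbs x 4 = 2 then 3
  else if nAbs x 4 = 1 then 4 else 6

theorem nAbs_eq_zero {x : GolayPt → ℤ} {a : ℤ} (h : ∀ p, x p ≠ a ∧ x p ≠ -a) : nAbs x a = 0 := by
  unfold nAbs
  rw [Finset.card_eq_zero, Finset.filter_eq_empty_iff]
  intro p _ hp
  rcases hp with hp | hp
  · exact (h p).1 hp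
  · exact (h p).2 hp

theorem nAbs_ne_zero {x : GolayPt → ℤ} {a : ℤ} (p : GolayPt) (h : x p = a ∨ x p = -a) :
    nAbs x a ≠ 0 := by
  unfold nAbs
  rw [Finset.card_ne_zero]
  exact ⟨p, Finset.mem_filter.mpr ⟨Finset.mem_univ p, h⟩⟩

theorem nAbs_eq_card {x : GolayPt → ℤ} {a : ℤ} (T : Finset GolayPt)
    (h : ∀ p, (x p = a ∨ x p = -a) ↔ p ∈ T) : nAbs x a = T.card := by
  unfold nAbs
  congr 1
  ext p
  rw [Finset.mem_filter, h p]
  simp

/-- invariance under coordinate permutations combined with sign changes -/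
theorem nAbs_congr {x y : GolayPt → ℤ} (σ : Equiv.Perm GolayPt)
    (h : ∀ p, y p = x (σ p) ∨ y p = -x (σ p)) (a : ℤ) : nAbs y a = nAbs x a := by
  unfold nAbs
  apply Finset.card_bij (fun p _ => σ p)
  · intro p hp
    rw [Finset.mem_filter] at hp ⊢
    refine ⟨Finset.mem_univ _, ?_⟩
    rcases h p with e | e <;> rcases hp.2 with f | f <;> rw [e] at f <;> omega
  · intro p _ q _ e
    exact σ.injective e
  · intro q hq
    rw [Finset.mem_filter] at hq
    refine ⟨σ.symm q, ?_, Equiv.apply_symm_apply σ q⟩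
    rw [Finset.mem_filter]
    refine ⟨Finset.mem_univ _, ?_⟩
    have := h (σ.symm q)
    rw [Equiv.apply_symm_apply] at this
    rcases this with e | e <;> rcases hq.2 with f | f <;> rw [e, f] <;> omega

theorem typ_congr {x y : GolayPt → ℤ} (σ : Equiv.Perm GolayPt)
    (h : ∀ p, y p = x (σ p) ∨ y p = -x (σ p)) : typ y = typ x := by
  unfold typ
  simp only [nAbs_congr σ h]

/-! ### The type of each shape -/

theorem typ_E1 {x : GolayPt → ℤ} (h : ShE1 x) : typ x = 0 := by
  obtain ⟨i, hi, _⟩ := h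
  unfold typ
  rw [if_pos (nAbs_ne_zero i hi)]

theorem typ_E2 {x : GolayPt → ℤ} (h : ShE2 x) : typ x = 1 := by
  have hv := vals_E2 h
  have h8 : nAbs x 8 = 0 := nAbs_eq_zero (fun p => by have := hv p; omega)
  have h6 : nAbs x 6 = 0 := nAbs_eq_zero (fun p => by have := hv p; omega)
  have h5 : nAbs x 5 = 0 := nAbs_eq_zero (fun p => by have := hv p; omega)
  have h3 : nAbs x 3 = 0 := nAbs_eq_zero (fun p => by have := hv p; omega)
  obtain ⟨T, hT, h1, h0⟩ := h
  have h4 : nAbs x 4 = 4 := by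
    rw [nAbs_eq_card T, hT]
    intro p
    constructor
    · intro hp
      by_contra hpT
      have := h0 p hpT
      omega
    · exact h1 p
  unfold typ
  simp [h8, h6, h5, h3, h4]

theorem typ_E3 {x : GolayPt → ℤ} (h : ShE3 x) : typ x = 2 := by
  have hv := vals_E3 h
  have h8 : nAbs x 8 = 0 := nAbs_eq_zero (fun p => by have := hv p; omega)
  obtain ⟨O, _, q, _, hq, _, _⟩ := h
  have h6 : nAbs x 6 ≠ 0 := nAbs_ne_zero q hq
  unfold typ
  simp [h8, h6]

theorem typ_E4 {x : GolayPt → ℤ} (h : ShE4 x) : typ x = 3 := by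
  classical
  have hv := vals_E4 h
  have h8 : nAbs x 8 = 0 := nAbs_eq_zero (fun p => by have := hv p; omega)
  have h6 : nAbs x 6 = 0 := nAbs_eq_zero (fun p => by have := hv p; omega)
  have h5 : nAbs x 5 = 0 := nAbs_eq_zero (fun p => by have := hv p; omega)
  have h3 : nAbs x 3 = 0 := nAbs_eq_zero (fun p => by have := hv p; omega)
  obtain ⟨O, _, q₁, q₂, hq₁O, hq₂O, hq, hq₁, hq₂, h1, h0⟩ := h
  have h4 : nAbs x 4 = 2 := by
    rw [nAbs_eq_card {q₁, q₂}, Finset.card_pair hq]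
    intro p
    rw [Finset.mem_insert, Finset.mem_singleton]
    constructor
    · intro hp
      by_contra hpT
      push Not at hpT
      by_cases hpO : p ∈ O
      · have := h1 p hpO; omega
      · have := h0 p hpO hpT.1 hpT.2; omega
    · rintro (rfl | rfl)
      · exact hq₁
      · exact hq₂
  unfold typ
  simp [h8, h6, h5, h3, h4]

theorem typ_E5 {x : GolayPt → ℤ} (h : ShE5 x) : typ x = 4 := by
  classical
  have hv := vals_E5 h
  have h8 : nAbs x 8 = 0 := nAbs_eq_zero (fun p => by have := hv p; omega)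
  have h6 : nAbs x 6 = 0 := nAbs_eq_zero (fun p => by have := hv p; omega)
  have h5 : nAbs x 5 = 0 := nAbs_eq_zero (fun p => by have := hv p; omega)
  have h3 : nAbs x 3 = 0 := nAbs_eq_zero (fun p => by have := hv p; omega)
  obtain ⟨D, _, q, hqD, hq, h1, h0⟩ := h
  have h4 : nAbs x 4 = 1 := by
    rw [nAbs_eq_card {q}, Finset.card_singleton]
    intro p
    rw [Finset.mem_singleton]
    constructor
    · intro hp
      by_contra hpT
      by_cases hpD : p ∈ D
      · have := h1 p hpD; omega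
      · have := h0 p hpD hpT; omega
    · rintro rfl
      exact hq
  unfold typ
  simp [h8, h6, h5, h3, h4]

theorem typ_E6 {x : GolayPt → ℤ} (h : ShE6 x) : typ x = 6 := by
  have hv := vals_E6 h
  have h8 : nAbs x 8 = 0 := nAbs_eq_zero (fun p => by have := hv p; omega)
  have h6 : nAbs x 6 = 0 := nAbs_eq_zero (fun p => by have := hv p; omega)
  have h5 : nAbs x 5 = 0 := nAbs_eq_zero (fun p => by have := hv p; omega)
  have h3 : nAbs x 3 = 0 := nAbs_eq_zero (fun p => by have := hv p; omega)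
  have h4 : nAbs x 4 = 0 := nAbs_eq_zero (fun p => by have := hv p; omega)
  unfold typ
  simp [h8, h6, h5, h3, h4]

theorem typ_O1 {x : GolayPt → ℤ} (h : ShO1 x) : typ x = 7 := by
  have hv := vals_O1 h
  have h8 : nAbs x 8 = 0 := nAbs_eq_zero (fun p => by have := hv p; omega)
  have h6 : nAbs x 6 = 0 := nAbs_eq_zero (fun p => by have := hv p; omega)
  obtain ⟨i, _, _, _, _, _, hi, _, _, _⟩ := h
  have h5 : nAbs x 5 ≠ 0 := nAbs_ne_zero i hi
  unfold typ
  simp [h8, h6, h5]

theorem typ_O2 {x : GolayPt → ℤ} (h : ShO2 x) : typ x = 5 := by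
  have hv := vals_O2 h
  have h8 : nAbs x 8 = 0 := nAbs_eq_zero (fun p => by have := hv p; omega)
  have h6 : nAbs x 6 = 0 := nAbs_eq_zero (fun p => by have := hv p; omega)
  obtain ⟨T, hT, h3', h1⟩ := h
  have h5 : nAbs x 5 = 0 := nAbs_eq_zero (fun p => by
    by_cases hp : p ∈ T
    · have := h3' p hp; omega
    · have := h1 p hp; omega)
  have hne : T.Nonempty := by
    rw [← Finset.card_pos, hT]; norm_num
  obtain ⟨p, hp⟩ := hne
  have h3 : nAbs x 3 ≠ 0 := nAbs_ne_zero p (h3' p hp)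
  unfold typ
  simp [h8, h6, h5, h3]

/-- the shape is determined by the type -/
theorem shape_of_typ {x : GolayPt → ℤ} (hx : x ∈ leechLattice) (hn : sqNorm x = 64) :
    (typ x = 1 → ShE2 x) ∧ (typ x = 2 → ShE3 x) ∧ (typ x = 3 → ShE4 x) ∧ (typ x = 4 → ShE5 x) ∧
      (typ x = 5 → ShO2 x) ∧ typ x ≤ 7 := by
  rcases shape64 hx hn with h | h | h | h | h | h | h | h
  · have := typ_E1 h; refine ⟨?_, ?_, ?_, ?_, ?_, ?_⟩ <;> omega
  · have := typ_E2 h; refine ⟨fun _ => h, ?_, ?_, ?_, ?_, ?_⟩ <;> omega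
  · have := typ_E3 h; refine ⟨?_, fun _ => h, ?_, ?_, ?_, ?_⟩ <;> omega
  · have := typ_E4 h; refine ⟨?_, ?_, fun _ => h, ?_, ?_, ?_⟩ <;> omega
  · have := typ_E5 h; refine ⟨?_, ?_, ?_, fun _ => h, ?_, ?_⟩ <;> omega
  · have := typ_E6 h; refine ⟨?_, ?_, ?_, ?_, ?_, ?_⟩ <;> omega
  · have := typ_O1 h; refine ⟨?_, ?_, ?_, ?_, ?_, ?_⟩ <;> omega
  · have := typ_O2 h; refine ⟨?_, ?_, ?_, ?_, fun _ => h, ?_⟩ <;> omega

end Cfsg.Agent.Lib.Helper1.StdCross
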