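import Mathlib
import Cfsg.Agent.Lib.Helper1.StdCross.SCTyp
import Cfsg.Agent.Lib.Helper1.LeechOrder2

/-!
# Vectors of the lattice in the same orbit of the monomial group
-/

set_option autoImplicit false

namespace Cfsg.Agent.Lib.Helper1.StdCross

open Cfsg Cfsg.Agent.Lib.Helper1.LeechCross Cfsg.Agent.Lib.Helper1.LeechAut
  Cfsg.Agent.Lib.Helper1.LeechMono Cfsg.Agent.Lib.Helper1.LeechConn
open scoped Pointwise

theorem epsF_uu (c : Finset GolayPt) (i : GolayPt) :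
    epsF c (uu i) = if i ∈ c then -uu i else uu i := by
  ext p
  unfold epsF
  by_cases hp : p = i
  · subst hp
    by_cases hc : p ∈ c
    · simp [hc, uu]
    · simp [hc, uu]
  · by_cases hc : i ∈ c
    · simp [hc, hp, uu]
    · simp [hc, hp, uu]

theorem epsF_neg (c : Finset GolayPt) (x : GolayPt → ℤ) : epsF c (-x) = -epsF c x := by
  ext p
  unfold epsF
  simp only [Pi.neg_apply]
  split_ifs <;> ring

theorem epsC_mem_NN (c : Finset GolayPt) (hc : c ∈ gC) : epsC c hc ∈ NN := by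
  intro v hv
  rw [epsC_apply]
  obtain ⟨i, h | h⟩ := (mem_stdCross_iff _).mp hv
  · rw [h, epsF_uu, mem_stdCross_iff]
    split_ifs
    · exact ⟨i, Or.inr rfl⟩
    · exact ⟨i, Or.inl rfl⟩
  · rw [h, epsF_neg, epsF_uu, mem_stdCross_iff]
    split_ifs
    · exact ⟨i, Or.inl (neg_neg _)⟩
    · exact ⟨i, Or.inr rfl⟩

theorem permF_uu (σ : Equiv.Perm GolayPt) (i : GolayPt) : permF σ (uu i) = uu (σ.symm i) := by
  ext p
  unfold permF uu
  have : (σ p = i) ↔ (p = σ.symm i) := by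
    constructor
    · intro h; rw [← h, Equiv.symm_apply_apply]
    · intro h; rw [h, Equiv.apply_symm_apply]
  simp only [this]

theorem permF_neg (σ : Equiv.Perm GolayPt) (x : GolayPt → ℤ) : permF σ (-x) = -permF σ x := rfl

theorem permC_mem_NN (σ : Equiv.Perm GolayPt) (hσ : σ ∈ M24) : permC σ hσ ∈ NN := by
  intro v hv
  rw [permC_apply]
  obtain ⟨i, h | h⟩ := (mem_stdCross_iff _).mp hv
  · rw [h, permF_uu, mem_stdCross_iff]
    exact ⟨_, Or.inl rfl⟩
  · rw [h, permF_neg, permF_uu, mem_stdCross_iff]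
    exact ⟨_, Or.inr rfl⟩

/-- the type of a vector is invariant under the monomial group -/
theorem typ_smul (g : Co0) (hg : g ∈ NN) (v : leechLattice) :
    typ ((g • v : leechLattice) : GolayPt → ℤ) = typ (v : GolayPt → ℤ) := by
  obtain ⟨⟨c, σ⟩, rfl⟩ := mono_surjective g hg
  rw [mono_apply]
  apply typ_congr σ.1.symm
  intro p
  rw [signedPerm_apply]
  split_ifs
  · right; rfl
  · left; rfl

/-- two lattice vectors in the same orbit of the monomial group -/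
def ConnN (x y : GolayPt → ℤ) : Prop :=
  ∃ (hx : x ∈ leechLattice) (g : Co0), g ∈ NN ∧
    ((g • (⟨x, hx⟩ : leechLattice) : leechLattice) : GolayPt → ℤ) = y

theorem ConnN.mem_left {x y : GolayPt → ℤ} (h : ConnN x y) : x ∈ leechLattice := h.1

theorem ConnN.mem_right {x y : GolayPt → ℤ} (h : ConnN x y) : y ∈ leechLattice := by
  obtain ⟨hx, g, _, rfl⟩ := h
  exact (g • (⟨x, hx⟩ : leechLattice)).2

theorem ConnN.refl {x : GolayPt → ℤ} (hx : x ∈ leechLattice) : ConnN x x :=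
  ⟨hx, 1, NN.one_mem, by rw [one_smul]⟩

theorem ConnN.trans {x y z : GolayPt → ℤ} (h1 : ConnN x y) (h2 : ConnN y z) : ConnN x z := by
  obtain ⟨hx, g, hgN, hg⟩ := h1
  obtain ⟨hy, k, hkN, hk⟩ := h2
  refine ⟨hx, k * g, NN.mul_mem hkN hgN, ?_⟩
  rw [mul_smul]
  have : g • (⟨x, hx⟩ : leechLattice) = ⟨y, hy⟩ := Subtype.ext hg
  rw [this, hk]

theorem ConnN.symm {x y : GolayPt → ℤ} (h : ConnN x y) : ConnN y x := by
  have hy := h.mem_right
  obtain ⟨hx, g, hgN, hg⟩ := h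
  refine ⟨hy, g⁻¹, NN.inv_mem hgN, ?_⟩
  have : g • (⟨x, hx⟩ : leechLattice) = ⟨y, hy⟩ := Subtype.ext hg
  rw [← this, inv_smul_smul]

theorem connN_eps {c : Finset GolayPt} (hc : c ∈ gC) {x : GolayPt → ℤ} (hx : x ∈ leechLattice) :
    ConnN x (epsF c x) := ⟨hx, epsC c hc, epsC_mem_NN c hc, rfl⟩

theorem connN_perm {σ : Equiv.Perm GolayPt} (hσ : σ ∈ M24) {x : GolayPt → ℤ}
    (hx : x ∈ leechLattice) : ConnN x (permF σ x) := ⟨hx, permC σ hσ, permC_mem_NN σ hσ, rfl⟩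

theorem connN_iff_exists {v w : leechLattice} :
    ConnN (v : GolayPt → ℤ) (w : GolayPt → ℤ) ↔ ∃ g ∈ NN, g • v = w := by
  constructor
  · rintro ⟨hx, g, hgN, hg⟩
    exact ⟨g, hgN, Subtype.ext hg⟩
  · rintro ⟨g, hgN, rfl⟩
    exact ⟨v.2, g, hgN, rfl⟩

end Cfsg.Agent.Lib.Helper1.StdCross
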