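import Mathlib
import Cfsg.Agent.Lib.Helper1.StdCross.SCConnN

/-!
# Crosses of the lattice as sets of lattice vectors, with the action of the automorphism group
-/

set_option autoImplicit false

namespace Cfsg.Agent.Lib.Helper1.StdCross

open Cfsg Cfsg.Agent.Lib.Helper1.LeechCross Cfsg.Agent.Lib.Helper1.LeechAut
  Cfsg.Agent.Lib.Helper1.LeechMono Cfsg.Agent.Lib.Helper1.LeechConn
open MulAction
open scoped Pointwise

/-- counting by fibers of constant size -/
theorem ncard_eq_mul_of_fibers {α β : Type*} (f : α → β) (A : Set α) (B : Set β) (m : ℕ)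
    (hA : A.Finite) (hmaps : ∀ a ∈ A, f a ∈ B)
    (hfib : ∀ b ∈ B, {a | a ∈ A ∧ f a = b}.ncard = m) (hm : m ≠ 0) :
    A.ncard = m * B.ncard := by
  classical
  have hBsub : B ⊆ f '' A := by
    intro b hb
    have h1 : {a | a ∈ A ∧ f a = b}.Nonempty := by
      apply Set.nonempty_of_ncard_ne_zero
      rw [hfib b hb]; exact hm
    obtain ⟨a, ha, hab⟩ := h1
    exact ⟨a, ha, hab⟩
  have hB : B.Finite := (hA.image f).subset hBsub
  rw [Set.ncard_eq_toFinset_card A hA, Set.ncard_eq_toFinset_card B hB]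
  rw [Finset.card_eq_sum_card_fiberwise (f := f) (s := hA.toFinset) (t := hB.toFinset)
    (fun a ha => by
      rw [Set.Finite.coe_toFinset] at ha ⊢
      exact hmaps a ha)]
  have : ∀ b ∈ hB.toFinset, (hA.toFinset.filter (fun a => f a = b)).card = m := by
    intro b hb
    rw [Set.Finite.mem_toFinset] at hb
    rw [← hfib b hb, ← Set.ncard_coe_finset]
    congr 1
    ext a
    simp
  rw [Finset.sum_congr rfl this, Finset.sum_const, smul_eq_mul, mul_comm]

/-- the cross through a lattice vector -/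
def crs (v : leechLattice) : Set leechLattice :=
  {w | sqNorm (w : GolayPt → ℤ) = 64 ∧ cl (w : GolayPt → ℤ) = cl (v : GolayPt → ℤ)}

theorem mem_crs (v w : leechLattice) :
    w ∈ crs v ↔ sqNorm (w : GolayPt → ℤ) = 64 ∧ cl (w : GolayPt → ℤ) = cl (v : GolayPt → ℤ) :=
  Iff.rfl

theorem mem_crs_self {v : leechLattice} (hv : sqNorm (v : GolayPt → ℤ) = 64) : v ∈ crs v :=
  ⟨hv, rfl⟩

theorem crs_eq_of_mem {v w : leechLattice} (h : w ∈ crs v) : crs w = crs v := by
  ext u
  rw [mem_crs, mem_crs, h.2]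

theorem cl_smul_of (g : Co0) {v w : leechLattice}
    (h : cl (w : GolayPt → ℤ) = cl (v : GolayPt → ℤ)) :
    cl ((g • w : leechLattice) : GolayPt → ℤ) = cl ((g • v : leechLattice) : GolayPt → ℤ) := by
  rw [cl_eq_iff, mem_twoL] at h ⊢
  obtain ⟨z, hz, hzd⟩ := h
  refine ⟨((g • (⟨z, hz⟩ : leechLattice) : leechLattice) : GolayPt → ℤ),
    (g • (⟨z, hz⟩ : leechLattice)).2, ?_⟩
  have h1 : w - v = (⟨z, hz⟩ : leechLattice) + ⟨z, hz⟩ := by
    apply Subtype.ext
    show (w : GolayPt → ℤ) - v = z + z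
    rw [← hzd, dbl_eq]
  have h2 : g.1 (w - v) = g.1 w - g.1 v := map_sub' g.2 w v
  rw [h1, g.2.1] at h2
  have h4 := congrArg (fun u : leechLattice => (u : GolayPt → ℤ)) h2
  simp only [AddSubgroup.coe_add, AddSubgroup.coe_sub] at h4
  rw [dbl_eq]
  exact h4

theorem sqNorm_smul (g : Co0) (v : leechLattice) :
    sqNorm ((g • v : leechLattice) : GolayPt → ℤ) = sqNorm (v : GolayPt → ℤ) := g.2.2 v

theorem smul_crs (g : Co0) (v : leechLattice) : g • crs v = crs (g • v) := by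
  ext u
  rw [Set.mem_smul_set_iff_inv_smul_mem, mem_crs, mem_crs, sqNorm_smul]
  constructor
  · rintro ⟨h1, h2⟩
    refine ⟨h1, ?_⟩
    have := cl_smul_of g h2
    rwa [smul_inv_smul] at this
  · rintro ⟨h1, h2⟩
    refine ⟨h1, ?_⟩
    have := cl_smul_of g⁻¹ h2
    rwa [inv_smul_smul] at this

open Classical in
theorem XX_eq_crs : XX = crs (UU none) := by
  ext w
  show (w : GolayPt → ℤ) ∈ stdCross ↔ _
  rw [← mem_TT48, ← class_eq, Finset.mem_filter, mem_SS, mem_crs]
  show _ ↔ sqNorm (w : GolayPt → ℤ) = 64 ∧ cl (w : GolayPt → ℤ) = cl (uu none)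
  constructor
  · rintro ⟨⟨_, _⟩, h2⟩
    refine ⟨?_, h2⟩
    apply (class_card (uu_mem none) (sqNorm_uu none)).2
    rw [Finset.mem_filter, mem_SS]
    exact ⟨⟨w.2, by assumption⟩, h2⟩
  · rintro ⟨h1, h2⟩
    exact ⟨⟨w.2, by rw [h1]⟩, h2⟩

open Classical in
theorem ncard_crs {v : leechLattice} (hv : sqNorm (v : GolayPt → ℤ) = 64) : (crs v).ncard = 48 := by
  have h1 : Subtype.val '' crs v =
      ((SS.filter (fun y => cl y = cl (v : GolayPt → ℤ)) : Finset (GolayPt → ℤ)) :
        Set (GolayPt → ℤ)) := by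
    ext x
    rw [Finset.mem_coe, Finset.mem_filter, mem_SS]
    constructor
    · rintro ⟨w, hw, rfl⟩
      exact ⟨⟨w.2, by rw [hw.1]⟩, hw.2⟩
    · rintro ⟨⟨hx, hn⟩, hc⟩
      refine ⟨⟨x, hx⟩, ⟨?_, hc⟩, rfl⟩
      apply (class_card v.2 hv).2
      rw [Finset.mem_filter, mem_SS]
      exact ⟨⟨hx, hn⟩, hc⟩
  rw [← Set.ncard_image_of_injective (crs v) Subtype.val_injective, h1, Set.ncard_coe_finset,
    (class_card v.2 hv).1]

theorem crs_finite (v : leechLattice) : (crs v).Finite := by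
  have : crs v ⊆ L64 := fun w hw => hw.1
  apply Set.Finite.subset _ this
  apply Set.finite_of_ncard_ne_zero
  rw [L64_ncard]
  norm_num

theorem mem_orbit_XX (S : Set leechLattice) :
    S ∈ orbit Co0 XX ↔ ∃ v : leechLattice, sqNorm (v : GolayPt → ℤ) = 64 ∧ crs v = S := by
  rw [mem_orbit_iff]
  constructor
  · rintro ⟨g, rfl⟩
    refine ⟨g • UU none, ?_, ?_⟩
    · rw [sqNorm_smul]; exact sqNorm_uu none
    · rw [XX_eq_crs, smul_crs]
  · rintro ⟨v, hv, rfl⟩
    have : v ∈ orbit Co0 (UU none) := by rw [orbit_eq]; exact hv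
    obtain ⟨g, rfl⟩ := this
    exact ⟨g, by rw [XX_eq_crs, smul_crs]⟩

theorem crs_mem_orbit {v : leechLattice} (hv : sqNorm (v : GolayPt → ℤ) = 64) :
    crs v ∈ orbit Co0 XX := (mem_orbit_XX _).mpr ⟨v, hv, rfl⟩

/-- the number of crosses -/
theorem orbit_ncard : (orbit Co0 XX).ncard = 8292375 := by
  have hfin : L64.Finite := by
    apply Set.finite_of_ncard_ne_zero
    rw [L64_ncard]
    norm_num
  have := ncard_eq_mul_of_fibers crs L64 (orbit Co0 XX) 48 hfin
    (fun v hv => crs_mem_orbit hv)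
    (fun S hS => by
      obtain ⟨v, hv, rfl⟩ := (mem_orbit_XX S).mp hS
      rw [← ncard_crs hv]
      congr 1
      ext w
      constructor
      · rintro ⟨hw, hws⟩
        rw [← hws]
        exact mem_crs_self hw
      · intro hw
        exact ⟨hw.1, crs_eq_of_mem hw⟩) (by norm_num)
  rw [L64_ncard] at this
  omega

end Cfsg.Agent.Lib.Helper1.StdCross
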