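import Mathlib
import Cfsg.Agent.Lib.Helper1.LeechGF5

set_option autoImplicit false

namespace Cfsg.Agent.Lib.Helper1.LeechGF

def alA1 : List ℤ := [0, 4, -4]
def alA6 : List ℤ := [0, 2, -2]
def alA26 : List ℤ := [0, 2, -2, 6, -6]
def alA5 : List ℤ := [1, -1, 3, -3]
def alB : List ℤ := [0, 2, -2, 12, -12]

theorem card_A1 : (SN alA1.toFinset 64).card = 170016 :=
  card_SN_eq alA1 (by decide) 64 170016 (by decide +kernel)
theorem card_A6 : (SN alA6.toFinset 64).card = 24870912 :=
  card_SN_eq alA6 (by decide) 64 24870912 (by decide +kernel)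
theorem card_A26 : (SN alA26.toFinset 64).card = 25648128 :=
  card_SN_eq alA26 (by decide) 64 25648128 (by decide +kernel)
theorem card_A5 : (SN alA5.toFinset 64).card = 174096384 :=
  card_SN_eq alA5 (by decide) 64 174096384 (by decide +kernel)
theorem card_B320 : (SN alB.toFinset 320).card = 46632960 :=
  card_SN_eq alB (by decide) 320 46632960 (by decide +kernel)
theorem card_B192 : (SN alB.toFinset 192).card = 126615552 :=
  card_SN_eq alB (by decide) 192 126615552 (by decide +kernel)

end Cfsg.Agent.Lib.Helper1.LeechGF
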