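import Mathlib
import Cfsg.Agent.Lib.Helper1.StdCross.SCConnN
import Cfsg.Agent.Lib.Helper1.StdCross.SCGF

/-!
# The number of vectors of the third layer of each type
-/

set_option autoImplicit false

namespace Cfsg.Agent.Lib.Helper1.StdCross

open Cfsg Cfsg.Agent.Lib.Helper1.LeechCross Cfsg.Agent.Lib.Helper1.LeechAut
  Cfsg.Agent.Lib.Helper1.LeechMono Cfsg.Agent.Lib.Helper1.LeechConn
  Cfsg.Agent.Lib.Helper1.LeechShape Cfsg.Agent.Lib.Helper1.LeechGF

theorem sqNorm_eq_count2 (x : GolayPt → ℤ) (a b : ℤ)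
    (h : ∀ p, x p = 0 ∨ x p = a ∨ x p = -a ∨ x p = b ∨ x p = -b)
    (h1 : a ≠ b) (h2 : a ≠ -b) (h3 : a ≠ 0) (h4 : b ≠ 0) :
    sqNorm x = a ^ 2 * nAbs x a + b ^ 2 * nAbs x b := by
  unfold sqNorm nAbs
  rw [Finset.card_filter, Finset.card_filter]
  push_cast
  rw [Finset.mul_sum, Finset.mul_sum, ← Finset.sum_add_distrib]
  apply Finset.sum_congr rfl
  intro p _
  have h5 : -a ≠ b := fun e => h2 (by rw [← e]; ring)
  have h6 : b ≠ a := fun e => h1 e.symm
  have h7 : -b ≠ a := fun e => h2 e.symm
  have h8 : b ≠ -a := fun e => h5 e.symm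
  have h9 : a ≠ -a := fun e => h3 (by omega)
  have h10 : b ≠ -b := fun e => h4 (by omega)
  have h11 : (0 : ℤ) ≠ a := fun e => h3 e.symm
  have h12 : (0 : ℤ) ≠ b := fun e => h4 e.symm
  have h13 : (0 : ℤ) ≠ -a := fun e => h3 (by omega)
  have h14 : (0 : ℤ) ≠ -b := fun e => h4 (by omega)
  rcases h p with e | e | e | e | e <;> rw [e] <;> simp [*]

/-- two disjoint families of coordinates -/
theorem nAbs_add_le (x : GolayPt → ℤ) (a b : ℤ) (h1 : a ≠ b) (h2 : a ≠ -b) :
    nAbs x a + nAbs x b ≤ 24 := by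
  classical
  unfold nAbs
  rw [← Finset.card_union_of_disjoint]
  · calc _ ≤ (Finset.univ : Finset GolayPt).card := Finset.card_le_card (Finset.subset_univ _)
      _ = 24 := by decide
  · rw [Finset.disjoint_filter]
    intro p _ hp hq
    rcases hp with e | e <;> rcases hq with f | f <;> rw [e] at f
    · exact h1 f
    · exact h2 f
    · apply h2; rw [← f]; ring
    · apply h1; omega

/-- membership in the lattice only depends on the coordinates modulo eight -/
theorem mem_of_eight_dvd {x y : GolayPt → ℤ} (hx : x ∈ leechLattice) (h : ∀ p, (8 : ℤ) ∣ y p - x p) :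
    y ∈ leechLattice := by
  have hz : y - x ∈ leechLattice := by
    rw [mem_leechLattice_iff, mem_leechSet_iff]
    refine ⟨0, ?_, ?_, ?_⟩
    · intro i
      have := h i
      simp only [Pi.sub_apply, Int.ModEq]
      omega
    · have : (8 : ℤ) ∣ ∑ i, (y - x) i := Finset.dvd_sum (fun i _ => h i)
      simp only [Int.ModEq]
      omega
    · intro k
      by_cases hk : k % 4 = 0
      · have : lvl (y - x) k = Finset.univ := by
          ext i
          simp only [Finset.mem_filter, Finset.mem_univ, true_and, iff_true, Int.ModEq,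
            Pi.sub_apply]
          have := h i
          omega
        rw [this]
        exact gC_univ
      · have : lvl (y - x) k = ∅ := by
          ext i
          simp only [Finset.mem_filter, Finset.mem_univ, true_and, Finset.notMem_empty,
            iff_false, Int.ModEq, Pi.sub_apply]
          have := h i
          omega
        rw [this]
        exact gC_empty
  have := leechLattice.add_mem hz hx
  rwa [sub_add_cancel] at this

/-- the vectors of the third layer of a given type -/
def TsetF (j : ℕ) : Set (GolayPt → ℤ) := {x | x ∈ leechLattice ∧ sqNorm x = 64 ∧ typ x = j}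

/-- the same as a set of lattice elements -/
def Tset (j : ℕ) : Set leechLattice :=
  {v | sqNorm (v : GolayPt → ℤ) = 64 ∧ typ (v : GolayPt → ℤ) = j}

theorem ncard_Tset (j : ℕ) : (Tset j).ncard = (TsetF j).ncard := by
  rw [← Set.ncard_image_of_injective (Tset j) Subtype.val_injective]
  congr 1
  ext x
  constructor
  · rintro ⟨v, hv, rfl⟩
    exact ⟨v.2, hv.1, hv.2⟩
  · rintro ⟨hx, h1, h2⟩
    exact ⟨⟨x, hx⟩, ⟨h1, h2⟩, rfl⟩

theorem alSet_eq (l : List ℤ) (N : ℕ) :
    {x : GolayPt → ℤ | x ∈ leechLattice ∧ sqNorm x = N ∧ ∀ i, x i ∈ l}.ncard =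
      (SN l.toFinset N).card := ncard_SN_list l N

/-! ### type 1 -/

theorem TsetF_one : TsetF 1 =
    {x : GolayPt → ℤ | x ∈ leechLattice ∧ sqNorm x = (64 : ℕ) ∧ ∀ i, x i ∈ alA1} := by
  ext x
  simp only [TsetF, Set.mem_setOf_eq, Nat.cast_ofNat]
  constructor
  · rintro ⟨hx, hn, ht⟩
    refine ⟨hx, hn, fun i => ?_⟩
    have := vals_E2 ((shape_of_typ hx hn).1 ht) i
    unfold alA1
    simp only [List.mem_cons, List.not_mem_nil, or_false]
    omega
  · rintro ⟨hx, hn, hal⟩
    refine ⟨hx, hn, ?_⟩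
    have hv : ∀ p, x p = 0 ∨ x p = 4 ∨ x p = -4 ∨ x p = 4 ∨ x p = -4 := by
      intro p
      have := hal p
      unfold alA1 at this
      simp only [List.mem_cons, List.not_mem_nil, or_false] at this
      omega
    have h8 : nAbs x 8 = 0 := nAbs_eq_zero (fun p => by have := hv p; omega)
    have h6 : nAbs x 6 = 0 := nAbs_eq_zero (fun p => by have := hv p; omega)
    have h5 : nAbs x 5 = 0 := nAbs_eq_zero (fun p => by have := hv p; omega)
    have h3 : nAbs x 3 = 0 := nAbs_eq_zero (fun p => by have := hv p; omega)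
    have h2 : nAbs x 2 = 0 := nAbs_eq_zero (fun p => by have := hv p; omega)
    have hs := sqNorm_eq_count2 x 2 4 (fun p => by have := hv p; omega) (by norm_num) (by norm_num)
      (by norm_num) (by norm_num)
    rw [hn, h2] at hs
    have h4 : nAbs x 4 = 4 := by push_cast at hs; omega
    unfold typ
    simp [h8, h6, h5, h3, h4]

theorem ncard_Tset_one : (Tset 1).ncard = 170016 := by
  rw [ncard_Tset, TsetF_one, alSet_eq, card_A1]

/-! ### type 5 -/

theorem TsetF_five : TsetF 5 =
    {x : GolayPt → ℤ | x ∈ leechLattice ∧ sqNorm x = (64 : ℕ) ∧ ∀ i, x i ∈ alA5} := by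
  ext x
  simp only [TsetF, Set.mem_setOf_eq, Nat.cast_ofNat]
  constructor
  · rintro ⟨hx, hn, ht⟩
    refine ⟨hx, hn, fun i => ?_⟩
    obtain ⟨T, _, h3, h1⟩ := (shape_of_typ hx hn).2.2.2.2.1 ht
    unfold alA5
    simp only [List.mem_cons, List.not_mem_nil, or_false]
    by_cases hi : i ∈ T
    · have := h3 i hi; omega
    · have := h1 i hi; omega
  · rintro ⟨hx, hn, hal⟩
    refine ⟨hx, hn, ?_⟩
    have hv : ∀ p, x p = 1 ∨ x p = -1 ∨ x p = 3 ∨ x p = -3 := by
      intro p
      have := hal p
      unfold alA5 at this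
      simp only [List.mem_cons, List.not_mem_nil, or_false] at this
      omega
    have h8 : nAbs x 8 = 0 := nAbs_eq_zero (fun p => by have := hv p; omega)
    have h6 : nAbs x 6 = 0 := nAbs_eq_zero (fun p => by have := hv p; omega)
    have h5 : nAbs x 5 = 0 := nAbs_eq_zero (fun p => by have := hv p; omega)
    have h3 : nAbs x 3 ≠ 0 := by
      intro h0
      have hall : ∀ p, x p ^ 2 = 1 := by
        intro p
        have hne : ¬ (x p = 3 ∨ x p = -3) := by
          intro h
          exact nAbs_ne_zero p h h0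
        rcases hv p with e | e | e | e
        · rw [e]; norm_num
        · rw [e]; norm_num
        · exact absurd (Or.inl e) hne
        · exact absurd (Or.inr e) hne
      unfold sqNorm at hn
      rw [Finset.sum_congr rfl (fun p _ => hall p), Finset.sum_const, Finset.card_univ,
        Cfsg.Agent.Lib.Helper1.card_golayPt] at hn
      norm_num at hn
    unfold typ
    simp [h8, h6, h5, h3]

theorem ncard_Tset_five : (Tset 5).ncard = 174096384 := by
  rw [ncard_Tset, TsetF_five, alSet_eq, card_A5]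

/-! ### type 2 -/

theorem TsetF_two : TsetF 2 =
    {x : GolayPt → ℤ | x ∈ leechLattice ∧ sqNorm x = (64 : ℕ) ∧ ∀ i, x i ∈ alA26} \
    {x : GolayPt → ℤ | x ∈ leechLattice ∧ sqNorm x = (64 : ℕ) ∧ ∀ i, x i ∈ alA6} := by
  ext x
  simp only [TsetF, Set.mem_setOf_eq, Nat.cast_ofNat, Set.mem_diff]
  constructor
  · rintro ⟨hx, hn, ht⟩
    have hsh := (shape_of_typ hx hn).2.1 ht
    refine ⟨⟨hx, hn, fun i => ?_⟩, ?_⟩
    · have := vals_E3 hsh i
      unfold alA26
      simp only [List.mem_cons, List.not_mem_nil, or_false]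
      omega
    · rintro ⟨_, _, hal⟩
      obtain ⟨O, _, q, _, hq, _, _⟩ := hsh
      have := hal q
      unfold alA6 at this
      simp only [List.mem_cons, List.not_mem_nil, or_false] at this
      omega
  · rintro ⟨⟨hx, hn, hal⟩, hnot⟩
    refine ⟨hx, hn, ?_⟩
    have hv : ∀ p, x p = 0 ∨ x p = 2 ∨ x p = -2 ∨ x p = 6 ∨ x p = -6 := by
      intro p
      have := hal p
      unfold alA26 at this
      simp only [List.mem_cons, List.not_mem_nil, or_false] at this
      omega
    have h8 : nAbs x 8 = 0 := nAbs_eq_zero (fun p => by have := hv p; omega)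
    have h6 : nAbs x 6 ≠ 0 := by
      by_contra h0
      apply hnot
      refine ⟨hx, hn, fun i => ?_⟩
      have hne : ¬ (x i = 6 ∨ x i = -6) := fun h => nAbs_ne_zero i h h0
      unfold alA6
      simp only [List.mem_cons, List.not_mem_nil, or_false]
      have := hv i
      omega
    unfold typ
    simp [h8, h6]

theorem ncard_Tset_two : (Tset 2).ncard = 777216 := by
  rw [ncard_Tset, TsetF_two]
  have hsub : {x : GolayPt → ℤ | x ∈ leechLattice ∧ sqNorm x = (64 : ℕ) ∧ ∀ i, x i ∈ alA6} ⊆
      {x : GolayPt → ℤ | x ∈ leechLattice ∧ sqNorm x = (64 : ℕ) ∧ ∀ i, x i ∈ alA26} := by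
    rintro x ⟨h1, h2, h3⟩
    refine ⟨h1, h2, fun i => ?_⟩
    have := h3 i
    unfold alA6 at this
    unfold alA26
    simp only [List.mem_cons, List.not_mem_nil, or_false] at this ⊢
    omega
  have hfin : {x : GolayPt → ℤ | x ∈ leechLattice ∧ sqNorm x = (64 : ℕ) ∧
      ∀ i, x i ∈ alA26}.Finite := by
    apply Set.finite_of_ncard_ne_zero
    rw [alSet_eq, card_A26]
    norm_num
  rw [Set.ncard_diff hsub (hfin.subset hsub), alSet_eq, alSet_eq, card_A26, card_A6]

end Cfsg.Agent.Lib.Helper1.StdCross
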