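import Mathlib
import Cfsg.Agent.Lib.Helper1.StdCross.SCCount

/-!
# The number of vectors of shapes (4², 2⁸) and (4, 2¹²): the fours are replaced by twelves, which
changes neither membership in the lattice nor the other coordinates, but separates the norms
-/

set_option autoImplicit false

namespace Cfsg.Agent.Lib.Helper1.StdCross

open Cfsg Cfsg.Agent.Lib.Helper1.LeechCross Cfsg.Agent.Lib.Helper1.LeechAut
  Cfsg.Agent.Lib.Helper1.LeechMono Cfsg.Agent.Lib.Helper1.LeechConn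
  Cfsg.Agent.Lib.Helper1.LeechShape Cfsg.Agent.Lib.Helper1.LeechGF

def liftF (v : ℤ) : ℤ := if v = 4 then 12 else if v = -4 then -12 else v
def dropF (v : ℤ) : ℤ := if v = 12 then 4 else if v = -12 then -4 else v

def LiftV (x : GolayPt → ℤ) : GolayPt → ℤ := fun p => liftF (x p)
def DropV (x : GolayPt → ℤ) : GolayPt → ℤ := fun p => dropF (x p)

theorem liftF_cases {v : ℤ} (h : v = 0 ∨ v = 2 ∨ v = -2 ∨ v = 4 ∨ v = -4) :
    (liftF v = 0 ∧ v = 0) ∨ (liftF v = 2 ∧ v = 2) ∨ (liftF v = -2 ∧ v = -2) ∨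
      (liftF v = 12 ∧ v = 4) ∨ (liftF v = -12 ∧ v = -4) := by
  unfold liftF
  rcases h with e | e | e | e | e <;> rw [e] <;> norm_num

theorem dropF_cases {v : ℤ} (h : v = 0 ∨ v = 2 ∨ v = -2 ∨ v = 12 ∨ v = -12) :
    (dropF v = 0 ∧ v = 0) ∨ (dropF v = 2 ∧ v = 2) ∨ (dropF v = -2 ∧ v = -2) ∨
      (dropF v = 4 ∧ v = 12) ∨ (dropF v = -4 ∧ v = -12) := by
  unfold dropF
  rcases h with e | e | e | e | e <;> rw [e] <;> norm_num

theorem nAbs_eq_of_iff {x y : GolayPt → ℤ} {a b : ℤ}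
    (h : ∀ p, (y p = b ∨ y p = -b) ↔ (x p = a ∨ x p = -a)) : nAbs y b = nAbs x a := by
  unfold nAbs
  congr 1
  ext p
  rw [Finset.mem_filter, Finset.mem_filter, h p]

def AlE (x : GolayPt → ℤ) : Prop := ∀ p, x p = 0 ∨ x p = 2 ∨ x p = -2 ∨ x p = 4 ∨ x p = -4
def AlB (x : GolayPt → ℤ) : Prop := ∀ p, x p = 0 ∨ x p = 2 ∨ x p = -2 ∨ x p = 12 ∨ x p = -12

theorem typ_of_AlE {x : GolayPt → ℤ} (h : AlE x) :
    typ x = if nAbs x 4 = 4 then 1 else if nAbs x 4 = 2 then 3 else if nAbs x 4 = 1 then 4 else 6 := by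
  have h8 : nAbs x 8 = 0 := nAbs_eq_zero (fun p => by have := h p; omega)
  have h6 : nAbs x 6 = 0 := nAbs_eq_zero (fun p => by have := h p; omega)
  have h5 : nAbs x 5 = 0 := nAbs_eq_zero (fun p => by have := h p; omega)
  have h3 : nAbs x 3 = 0 := nAbs_eq_zero (fun p => by have := h p; omega)
  unfold typ
  simp [h8, h6, h5, h3]

theorem AlB_LiftV {x : GolayPt → ℤ} (h : AlE x) : AlB (LiftV x) := by
  intro p
  have := liftF_cases (h p)
  unfold LiftV
  omega

theorem AlE_DropV {x : GolayPt → ℤ} (h : AlB x) : AlE (DropV x) := by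
  intro p
  have := dropF_cases (h p)
  unfold DropV
  omega

theorem DropV_LiftV {x : GolayPt → ℤ} (h : AlE x) : DropV (LiftV x) = x := by
  ext p
  have := liftF_cases (h p)
  show dropF (liftF (x p)) = x p
  unfold dropF
  rcases this with ⟨e, f⟩ | ⟨e, f⟩ | ⟨e, f⟩ | ⟨e, f⟩ | ⟨e, f⟩ <;> rw [e, f] <;> norm_num

theorem LiftV_DropV {x : GolayPt → ℤ} (h : AlB x) : LiftV (DropV x) = x := by
  ext p
  have := dropF_cases (h p)
  show liftF (dropF (x p)) = x p
  unfold liftF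
  rcases this with ⟨e, f⟩ | ⟨e, f⟩ | ⟨e, f⟩ | ⟨e, f⟩ | ⟨e, f⟩ <;> rw [e, f] <;> norm_num

theorem LiftV_mem {x : GolayPt → ℤ} (h : AlE x) (hx : x ∈ leechLattice) : LiftV x ∈ leechLattice := by
  apply mem_of_eight_dvd hx
  intro p
  have := liftF_cases (h p)
  show (8 : ℤ) ∣ liftF (x p) - x p
  omega

theorem DropV_mem {x : GolayPt → ℤ} (h : AlB x) (hx : x ∈ leechLattice) : DropV x ∈ leechLattice := by
  apply mem_of_eight_dvd hx
  intro p
  have := dropF_cases (h p)
  show (8 : ℤ) ∣ dropF (x p) - x p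
  omega

theorem nAbs_LiftV {x : GolayPt → ℤ} (h : AlE x) :
    nAbs (LiftV x) 12 = nAbs x 4 ∧ nAbs (LiftV x) 2 = nAbs x 2 := by
  constructor
  · apply nAbs_eq_of_iff
    intro p
    have := liftF_cases (h p)
    show (liftF (x p) = 12 ∨ liftF (x p) = -12) ↔ _
    omega
  · apply nAbs_eq_of_iff
    intro p
    have := liftF_cases (h p)
    show (liftF (x p) = 2 ∨ liftF (x p) = -2) ↔ _
    omega

theorem sqNorm_AlE {x : GolayPt → ℤ} (h : AlE x) : sqNorm x = 4 * nAbs x 2 + 16 * nAbs x 4 := by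
  have := sqNorm_eq_count2 x 2 4 h (by norm_num) (by norm_num) (by norm_num) (by norm_num)
  rw [this]; norm_num

theorem sqNorm_AlB {x : GolayPt → ℤ} (h : AlB x) : sqNorm x = 4 * nAbs x 2 + 144 * nAbs x 12 := by
  have := sqNorm_eq_count2 x 2 12 h (by norm_num) (by norm_num) (by norm_num) (by norm_num)
  rw [this]; norm_num

theorem AlE_of_mem_alphabet {x : GolayPt → ℤ} (h : ∀ i, x i ∈ alB) : AlB x := by
  intro p
  have := h p
  unfold alB at this
  simp only [List.mem_cons, List.not_mem_nil, or_false] at this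
  omega

/-- the main bijection -/
theorem ncard_TsetF_lift (k j N' : ℕ) (hk : (k = 2 ∧ j = 3 ∧ N' = 320) ∨ (k = 1 ∧ j = 4 ∧ N' = 192)) :
    (TsetF j).ncard =
      {x : GolayPt → ℤ | x ∈ leechLattice ∧ sqNorm x = (N' : ℕ) ∧ ∀ i, x i ∈ alB}.ncard := by
  -- vectors of type `j` have coordinates in the even alphabet and `k` fours
  have hT : ∀ x ∈ TsetF j, AlE x ∧ nAbs x 4 = k := by
    rintro x ⟨hx, hn, ht⟩
    have hsh := shape_of_typ hx hn
    rcases hk with ⟨rfl, rfl, rfl⟩ | ⟨rfl, rfl, rfl⟩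
    · have hal : AlE x := fun p => by have := vals_E4 (hsh.2.2.1 ht) p; omega
      refine ⟨hal, ?_⟩
      have := typ_of_AlE hal
      rw [ht] at this
      split_ifs at this <;> omega
    · have hal : AlE x := fun p => by have := vals_E5 (hsh.2.2.2.1 ht) p; omega
      refine ⟨hal, ?_⟩
      have := typ_of_AlE hal
      rw [ht] at this
      split_ifs at this <;> omega
  rw [← Set.ncard_image_of_injOn (f := LiftV) (s := TsetF j)]
  · congr 1
    ext y
    constructor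
    · rintro ⟨x, hxT, rfl⟩
      obtain ⟨hal, h4⟩ := hT x hxT
      obtain ⟨hx, hn, _⟩ := hxT
      have hB := AlB_LiftV hal
      refine ⟨LiftV_mem hal hx, ?_, fun i => ?_⟩
      · rw [sqNorm_AlB hB, (nAbs_LiftV hal).1, (nAbs_LiftV hal).2]
        rw [sqNorm_AlE hal] at hn
        rcases hk with ⟨rfl, rfl, rfl⟩ | ⟨rfl, rfl, rfl⟩ <;> push_cast at hn ⊢ <;> omega
      · have := hB i
        unfold alB
        simp only [List.mem_cons, List.not_mem_nil, or_false]
        omega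
    · rintro ⟨hy, hn, hal⟩
      have hB := AlE_of_mem_alphabet hal
      have hE := AlE_DropV hB
      refine ⟨DropV y, ⟨DropV_mem hB hy, ?_, ?_⟩, LiftV_DropV hB⟩
      all_goals
        have e1 := nAbs_LiftV hE
        rw [LiftV_DropV hB] at e1
        have hle := nAbs_add_le y 2 12 (by norm_num) (by norm_num)
        rw [sqNorm_AlB hB] at hn
      · rw [sqNorm_AlE hE, ← e1.1, ← e1.2]
        rcases hk with ⟨rfl, rfl, rfl⟩ | ⟨rfl, rfl, rfl⟩ <;> push_cast at hn ⊢ <;> omega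
      · rw [typ_of_AlE hE, ← e1.1]
        rcases hk with ⟨rfl, rfl, rfl⟩ | ⟨rfl, rfl, rfl⟩
        · have : nAbs y 12 = 2 := by push_cast at hn; omega
          rw [this]; norm_num
        · have : nAbs y 12 = 1 := by push_cast at hn; omega
          rw [this]; norm_num
  · intro x hx x' hx' e
    rw [← DropV_LiftV (hT x hx).1, ← DropV_LiftV (hT x' hx').1, e]

theorem ncard_Tset_three : (Tset 3).ncard = 46632960 := by
  rw [ncard_Tset, ncard_TsetF_lift 2 3 320 (Or.inl ⟨rfl, rfl, rfl⟩), alSet_eq, card_B320]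

theorem ncard_Tset_four : (Tset 4).ncard = 126615552 := by
  rw [ncard_Tset, ncard_TsetF_lift 1 4 192 (Or.inr ⟨rfl, rfl, rfl⟩), alSet_eq, card_B192]

end Cfsg.Agent.Lib.Helper1.StdCross
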