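import Mathlib
import Cfsg.Agent.Lib.Helper1.StdCross.SCCount2
import Cfsg.Agent.Lib.Helper1.StdCross.SCRep1
import Cfsg.Agent.Lib.Helper1.StdCross.SCRep2
import Cfsg.Agent.Lib.Helper1.StdCross.SCRep3
import Cfsg.Agent.Lib.Helper1.StdCross.SCRep4
import Cfsg.Agent.Lib.Helper1.StdCross.SCRep5
import Cfsg.Agent.Lib.Helper1.CoatomOrbits

/-!
# The monomial group is a maximal subgroup of the automorphism group of the lattice
-/

set_option autoImplicit false

namespace Cfsg.Agent.Lib.Helper1.StdCross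

open Cfsg Cfsg.Agent.Lib.Helper1.LeechCross Cfsg.Agent.Lib.Helper1.LeechAut
  Cfsg.Agent.Lib.Helper1.LeechMono Cfsg.Agent.Lib.Helper1.LeechConn
  Cfsg.Agent.Lib.Helper1.LeechShape
open MulAction
open scoped Pointwise

instance finite_Co0 : Finite Co0 :=
  Nat.finite_of_card_ne_zero (by rw [card_Co0]; norm_num)

/-- the class of a cross: the smallest type of its vectors -/
noncomputable def cls (S : Set leechLattice) : ℕ :=
  sInf ((fun w : leechLattice => typ (w : GolayPt → ℤ)) '' S)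

theorem cls_mem {S : Set leechLattice} (hS : S.Nonempty) :
    ∃ w ∈ S, typ (w : GolayPt → ℤ) = cls S := by
  have := Nat.sInf_mem (s := (fun w : leechLattice => typ (w : GolayPt → ℤ)) '' S) (hS.image _)
  obtain ⟨w, hw, h⟩ := this
  exact ⟨w, hw, h⟩

theorem cls_le {S : Set leechLattice} {w : leechLattice} (hw : w ∈ S) :
    cls S ≤ typ (w : GolayPt → ℤ) := Nat.sInf_le ⟨w, hw, rfl⟩

theorem cls_eq_of {S : Set leechLattice} {j a : ℕ} (hja : j ≤ a)
    (h1 : ∃ w ∈ S, typ (w : GolayPt → ℤ) = j)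
    (h2 : ∀ w ∈ S, typ (w : GolayPt → ℤ) = j ∨ typ (w : GolayPt → ℤ) = a) : cls S = j := by
  obtain ⟨w, hw, hwj⟩ := h1
  apply le_antisymm
  · rw [← hwj]; exact cls_le hw
  · obtain ⟨u, hu, huc⟩ := cls_mem ⟨w, hw⟩
    rw [← huc]
    rcases h2 u hu with e | e <;> rw [e]
    exact hja

theorem cls_smul (h : Co0) (hh : h ∈ NN) (S : Set leechLattice) : cls (h • S) = cls S := by
  unfold cls
  congr 1
  ext n
  constructor
  · rintro ⟨w, hw, rfl⟩
    obtain ⟨u, hu, rfl⟩ := hw
    exact ⟨u, hu, (typ_smul h hh u).symm⟩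
  · rintro ⟨u, hu, rfl⟩
    exact ⟨h • u, Set.smul_mem_smul_set hu, typ_smul h hh u⟩

theorem stabilizer_XX : stabilizer Co0 XX = NN := by
  ext g
  rw [mem_stabilizer_iff]
  constructor
  · intro h v hv
    have : g • v ∈ g • XX := Set.smul_mem_smul_set (show v ∈ XX from hv)
    rw [h] at this
    exact this
  · intro hg
    apply Set.Subset.antisymm
    · rintro _ ⟨v, hv, rfl⟩
      exact hg v hv
    · intro v hv
      rw [Set.mem_smul_set_iff_inv_smul_mem]
      exact (NN.inv_mem hg) v hv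

theorem NN_le_stabilizer {h : Co0} (hh : h ∈ NN) : h ∈ stabilizer Co0 XX := by
  rw [stabilizer_XX]; exact hh

/-! ### A type with a standard vector -/

section Rep

variable (r : leechLattice) (j a m : ℕ) (hr64 : sqNorm (r : GolayPt → ℤ) = 64)
  (hrj : typ (r : GolayPt → ℤ) = j) (hja : j ≤ a)
  (hrep : {w : leechLattice | w ∈ crs r ∧ typ (w : GolayPt → ℤ) = j}.ncard = m ∧
      ∀ w ∈ crs r, typ (w : GolayPt → ℤ) = j ∨ typ (w : GolayPt → ℤ) = a)
  (htr : ∀ v : leechLattice, sqNorm (v : GolayPt → ℤ) = 64 → typ (v : GolayPt → ℤ) = j →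
      ∃ h ∈ NN, h • v = r)

include hr64 hrj hja hrep in
theorem cls_rep : cls (crs r) = j :=
  cls_eq_of hja ⟨r, mem_crs_self hr64, hrj⟩ hrep.2

include htr in
/-- the crosses of class `j` are the images of the standard one under the monomial group -/
theorem exists_smul_of_cls {S : Set leechLattice} (hS : S ∈ orbit Co0 XX) (hc : cls S = j) :
    ∃ h ∈ NN, h • crs r = S := by
  obtain ⟨v, hv, rfl⟩ := (mem_orbit_XX S).mp hS
  obtain ⟨w, hw, hwc⟩ := cls_mem ⟨v, mem_crs_self hv⟩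
  rw [hc] at hwc
  obtain ⟨h, hh, hhw⟩ := htr w hw.1 hwc
  refine ⟨h⁻¹, NN.inv_mem hh, ?_⟩
  rw [smul_crs, ← hhw, inv_smul_smul, crs_eq_of_mem hw]

include hr64 hrj hja hrep htr in
theorem ncard_cls (hm : m ≠ 0) :
    (Tset j).ncard = m * {S | S ∈ orbit Co0 XX ∧ cls S = j}.ncard := by
  have hfin : (Tset j).Finite := by
    have : Tset j ⊆ L64 := fun v hv => hv.1
    apply Set.Finite.subset _ this
    apply Set.finite_of_ncard_ne_zero
    rw [L64_ncard]
    norm_num
  apply ncard_eq_mul_of_fibers crs (Tset j) _ m hfin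
  · rintro v ⟨hv, hvt⟩
    refine ⟨crs_mem_orbit hv, ?_⟩
    obtain ⟨h, hh, hhv⟩ := htr v hv hvt
    have : crs v = h⁻¹ • crs r := by rw [smul_crs, ← hhv, inv_smul_smul]
    rw [this, cls_smul _ (NN.inv_mem hh), cls_rep r j a m hr64 hrj hja hrep]
  · rintro S ⟨hS, hc⟩
    obtain ⟨h, hh, rfl⟩ := exists_smul_of_cls r j htr hS hc
    rw [← hrep.1]
    have : {v | v ∈ Tset j ∧ crs v = h • crs r} =
        (fun w : leechLattice => h • w) '' {w | w ∈ crs r ∧ typ (w : GolayPt → ℤ) = j} := by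
      ext v
      constructor
      · rintro ⟨⟨hv, hvt⟩, hvS⟩
        have hvm : v ∈ h • crs r := by rw [← hvS]; exact mem_crs_self hv
        obtain ⟨w, hw, rfl⟩ := hvm
        exact ⟨w, ⟨hw, by rw [← typ_smul h hh w]; exact hvt⟩, rfl⟩
      · rintro ⟨w, ⟨hw, hwt⟩, rfl⟩
        have hmem : h • w ∈ crs (h • r) := by
          rw [← smul_crs]; exact Set.smul_mem_smul_set hw
        refine ⟨⟨hmem.1, by rw [typ_smul h hh w]; exact hwt⟩, ?_⟩
        rw [smul_crs]
        exact crs_eq_of_mem hmem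
    rw [this, Set.ncard_image_of_injective _ (MulAction.injective h)]
  · exact hm

include htr in
theorem trans_cls {S S' : Set leechLattice} (hS : S ∈ orbit Co0 XX) (hS' : S' ∈ orbit Co0 XX)
    (hc : cls S = j) (hc' : cls S' = j) : ∃ h ∈ stabilizer Co0 XX, h • S = S' := by
  obtain ⟨h, hh, rfl⟩ := exists_smul_of_cls r j htr hS hc
  obtain ⟨h', hh', rfl⟩ := exists_smul_of_cls r j htr hS' hc'
  refine ⟨h' * h⁻¹, NN_le_stabilizer (NN.mul_mem hh' (NN.inv_mem hh)), ?_⟩
  rw [mul_smul, inv_smul_smul]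

end Rep

/-! ### The five standard vectors -/

theorem htr1 (v : leechLattice) (hv : sqNorm (v : GolayPt → ℤ) = 64)
    (ht : typ (v : GolayPt → ℤ) = 1) : ∃ h ∈ NN, h • v = (⟨e2, e2_memL⟩ : leechLattice) :=
  connN_iff_exists.mp (shE2_connN v.2 ((shape_of_typ v.2 hv).1 ht))

theorem htr2 (v : leechLattice) (hv : sqNorm (v : GolayPt → ℤ) = 64)
    (ht : typ (v : GolayPt → ℤ) = 2) : ∃ h ∈ NN, h • v = (⟨e3, e3_memL⟩ : leechLattice) :=
  connN_iff_exists.mp (shE3_connN v.2 ((shape_of_typ v.2 hv).2.1 ht))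

theorem htr3 (v : leechLattice) (hv : sqNorm (v : GolayPt → ℤ) = 64)
    (ht : typ (v : GolayPt → ℤ) = 3) : ∃ h ∈ NN, h • v = (⟨e4, e4_memL⟩ : leechLattice) :=
  connN_iff_exists.mp (shE4_connN v.2 ((shape_of_typ v.2 hv).2.2.1 ht))

theorem htr4 (v : leechLattice) (hv : sqNorm (v : GolayPt → ℤ) = 64)
    (ht : typ (v : GolayPt → ℤ) = 4) : ∃ h ∈ NN, h • v = (⟨e5, e5_memL⟩ : leechLattice) :=
  connN_iff_exists.mp (shE5_connN v.2 ((shape_of_typ v.2 hv).2.2.2.1 ht))

theorem htr5 (v : leechLattice) (hv : sqNorm (v : GolayPt → ℤ) = 64)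
    (ht : typ (v : GolayPt → ℤ) = 5) : ∃ h ∈ NN, h • v = (⟨o2, o2_memL⟩ : leechLattice) :=
  connN_iff_exists.mp (shO2_connN v.2 ((shape_of_typ v.2 hv).2.2.2.2.1 ht))

/-- the class sizes -/
def Ncl (k : ℕ) : ℕ := [1, 3542, 48576, 1457280, 2637824, 4145152].getD k 0

/-- the standard cross is the only cross of class 0 -/
theorem eq_XX_of_cls {S : Set leechLattice} (hS : S ∈ orbit Co0 XX) (hc : cls S = 0) : S = XX := by
  obtain ⟨v, hv, rfl⟩ := (mem_orbit_XX S).mp hS
  obtain ⟨w, hw, hwc⟩ := cls_mem ⟨v, mem_crs_self hv⟩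
  rw [hc] at hwc
  -- `w` has shape E1
  have hsh : ShE1 (w : GolayPt → ℤ) := by
    rcases shape64 w.2 hw.1 with h | h | h | h | h | h | h | h
    · exact h
    · have := typ_E2 h; omega
    · have := typ_E3 h; omega
    · have := typ_E4 h; omega
    · have := typ_E5 h; omega
    · have := typ_E6 h; omega
    · have := typ_O1 h; omega
    · have := typ_O2 h; omega
  have hwX : w ∈ XX := by
    show (w : GolayPt → ℤ) ∈ stdCross
    rw [mem_stdCross_iff]
    obtain ⟨i, hi, hr⟩ := hsh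
    refine ⟨i, ?_⟩
    rcases hi with e | e
    · left
      ext p
      unfold uu
      by_cases hp : p = i
      · rw [hp, e, if_pos rfl]
      · rw [hr p hp, if_neg hp]
    · right
      ext p
      rw [Pi.neg_apply]
      unfold uu
      by_cases hp : p = i
      · rw [hp, e, if_pos rfl]
      · rw [hr p hp, if_neg hp]; norm_num
  rw [← crs_eq_of_mem hw]
  rw [XX_eq_crs] at hwX ⊢
  exact crs_eq_of_mem hwX

theorem cls_XX : cls XX = 0 := by
  apply cls_eq_of (le_refl 0)
  · refine ⟨UU none, ?_, ?_⟩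
    · rw [XX_eq_crs]; exact mem_crs_self (sqNorm_uu none)
    · apply typ_E1
      exact ⟨none, Or.inl (by show uu none none = 8; unfold uu; rw [if_pos rfl]),
        fun p hp => by show uu none p = 0; unfold uu; rw [if_neg hp]⟩
  · intro w hw
    left
    have hw' : (w : GolayPt → ℤ) ∈ stdCross := hw
    rw [mem_stdCross_iff] at hw'
    obtain ⟨i, e | e⟩ := hw'
    · apply typ_E1
      refine ⟨i, Or.inl (by rw [e]; unfold uu; rw [if_pos rfl]), fun p hp => ?_⟩
      rw [e]; unfold uu; rw [if_neg hp]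
    · apply typ_E1
      refine ⟨i, Or.inr (by rw [e, Pi.neg_apply]; unfold uu; rw [if_pos rfl]), fun p hp => ?_⟩
      rw [e, Pi.neg_apply]; unfold uu; rw [if_neg hp]; norm_num

theorem ncard_cls_zero : {S | S ∈ orbit Co0 XX ∧ cls S = 0}.ncard = 1 := by
  have : {S | S ∈ orbit Co0 XX ∧ cls S = 0} = {XX} := by
    ext S
    constructor
    · rintro ⟨hS, hc⟩
      exact eq_XX_of_cls hS hc
    · intro h
      rw [Set.mem_singleton_iff] at h
      subst h
      exact ⟨mem_orbit_self _, cls_XX⟩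
  rw [this, Set.ncard_singleton]

/-- the number of crosses of each class -/
theorem hN_all : ∀ k ∈ ({0, 1, 2, 3, 4, 5} : Finset ℕ),
    {S | S ∈ orbit Co0 XX ∧ cls S = k}.ncard = Ncl k := by
  intro k hk
  simp only [Finset.mem_insert, Finset.mem_singleton] at hk
  rcases hk with rfl | rfl | rfl | rfl | rfl | rfl
  · exact ncard_cls_zero
  · have := ncard_cls ⟨e2, e2_memL⟩ 1 1 48 e2_norm e2_typ (le_refl _) (rep1 e2_memL) htr1
      (by norm_num)
    rw [ncard_Tset_one] at this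
    show _ = 3542
    omega
  · have := ncard_cls ⟨e3, e3_memL⟩ 2 6 16 e3_norm e3_typ (by norm_num) (rep2 e3_memL) htr2
      (by norm_num)
    rw [ncard_Tset_two] at this
    show _ = 48576
    omega
  · have := ncard_cls ⟨e4, e4_memL⟩ 3 6 32 e4_norm e4_typ (by norm_num) (rep3 e4_memL) htr3
      (by norm_num)
    rw [ncard_Tset_three] at this
    show _ = 1457280
    omega
  · have := ncard_cls ⟨e5, e5_memL⟩ 4 4 48 e5_norm e5_typ (le_refl _) (rep4 e5_memL) htr4
      (by norm_num)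
    rw [ncard_Tset_four] at this
    show _ = 2637824
    omega
  · have := ncard_cls ⟨o2, o2_memL⟩ 5 7 42 o2_norm o2_typ (by norm_num) (rep5 o2_memL) htr5
      (by norm_num)
    rw [ncard_Tset_five] at this
    show _ = 4145152
    omega

/-- every cross has class at most five -/
theorem hV_all : ∀ S ∈ orbit Co0 XX, cls S ∈ ({0, 1, 2, 3, 4, 5} : Finset ℕ) := by
  have h1 := Cfsg.Agent.Lib.Helper1.CoatomOrbits.ncard_classes (G := Co0) XX cls
    {0, 1, 2, 3, 4, 5} Ncl hN_all {0, 1, 2, 3, 4, 5} (Finset.Subset.refl _)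
  have h2 : (∑ k ∈ ({0, 1, 2, 3, 4, 5} : Finset ℕ), Ncl k) = 8292375 := by decide
  rw [h2, ← orbit_ncard] at h1
  have hfin : (orbit Co0 XX).Finite := Set.finite_range _
  have hsub : {x | x ∈ orbit Co0 XX ∧ cls x ∈ ({0, 1, 2, 3, 4, 5} : Finset ℕ)} ⊆ orbit Co0 XX :=
    fun x hx => hx.1
  have heq := Set.eq_of_subset_of_ncard_le hsub (le_of_eq h1.symm) hfin
  intro S hS
  rw [← heq] at hS
  exact hS.2

theorem harith_all : ∀ I ∈ ({0, 1, 2, 3, 4, 5} : Finset ℕ).powerset, 0 ∈ I →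
    (∑ k ∈ I, Ncl k) ∣ (∑ k ∈ ({0, 1, 2, 3, 4, 5} : Finset ℕ), Ncl k) →
      I = {0} ∨ I = {0, 1, 2, 3, 4, 5} := by
  decide +kernel

/-- the monomial group is a maximal subgroup -/
theorem isCoatom_NN : IsCoatom NN := by
  rw [← stabilizer_XX]
  apply Cfsg.Agent.Lib.Helper1.CoatomOrbits.isCoatom_stabilizer (G := Co0) XX cls
    {0, 1, 2, 3, 4, 5} Ncl hV_all
  · -- transitivity on each class
    intro S hS S' hS' hc
    have hk := hV_all S hS
    simp only [Finset.mem_insert, Finset.mem_singleton] at hk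
    rcases hk with h | h | h | h | h | h
    · have e1 := eq_XX_of_cls hS h
      have e2 := eq_XX_of_cls hS' (hc ▸ h)
      exact ⟨1, Subgroup.one_mem _, by rw [one_smul, e1, e2]⟩
    · exact trans_cls ⟨e2, e2_memL⟩ 1 htr1 hS hS' h
        (hc ▸ h)
    · exact trans_cls ⟨e3, e3_memL⟩ 2 htr2 hS hS' h
        (hc ▸ h)
    · exact trans_cls ⟨e4, e4_memL⟩ 3 htr3 hS hS' h
        (hc ▸ h)
    · exact trans_cls ⟨e5, e5_memL⟩ 4 htr4 hS hS' h
        (hc ▸ h)
    · exact trans_cls ⟨o2, o2_memL⟩ 5 htr5 hS hS' h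
        (hc ▸ h)
  · exact hN_all
  · intro S hS hc
    rw [cls_XX] at hc
    exact eq_XX_of_cls hS hc
  · intro htop
    have h1 : orbit Co0 XX = {XX} := by
      ext S
      constructor
      · rintro ⟨g, rfl⟩
        have : g ∈ stabilizer Co0 XX := by rw [htop]; trivial
        exact mem_stabilizer_iff.mp this
      · intro h
        rw [Set.mem_singleton_iff] at h
        subst h
        exact mem_orbit_self _
    have h2 := orbit_ncard
    rw [h1, Set.ncard_singleton] at h2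
    norm_num at h2
  · rw [cls_XX]
    exact harith_all

end Cfsg.Agent.Lib.Helper1.StdCross
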