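import Mathlib
import Cfsg.Agent.Lib.Helper1.StdCross.SCConnN

/-!
# The stabilizer of an octad is doubly transitive on the sixteen outside points
-/

set_option autoImplicit false

namespace Cfsg.Agent.Lib.Helper1.StdCross

open Cfsg Cfsg.Agent.Lib.Helper1 Cfsg.Agent.Lib.Helper1.M24 Cfsg.Agent.Lib.Helper1.LeechConn
open scoped Pointwise

noncomputable def gO1 : El K := El.mul n6 n255 [2, 3, 14, 5, 4, 17, 21, 12, 22, 8, 6, 16, 9, 13, 1, 11, 10, 0, 15, 7, 19, 18, 20, 23] (by decide +kernel)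
noncomputable def gO2 : El K := El.mul n197 n447 [0, 14, 3, 1, 4, 17, 16, 13, 11, 20, 15, 10, 9, 6, 2, 8, 7, 5, 12, 21, 18, 19, 22, 23] (by decide +kernel)

/-- the stabilizer of the standard octad -/
def H8 : Subgroup P24 := M24 ⊓ MulAction.stabilizer P24 Oc

theorem mem_H8_of_pm {e : El K} (h : pm e.t O₀ = O₀) : e.σ ∈ H8 := by
  refine ⟨K_le e.mem, ?_⟩
  show e.σ • Oc = Oc
  unfold Oc
  rw [smul_support_eq_pm, h]

noncomputable def gensOct : List (El K) := [gO1, gO2]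

theorem gensOct_mem : ∀ e ∈ gensOct, e.σ ∈ H8 := by
  have h : ∀ e ∈ gensOct, pm e.t O₀ = O₀ := by decide +kernel
  exact fun e he => mem_H8_of_pm (h e he)

theorem lvlOct : ∀ q < 24, O₀.testBit q = false → q ≠ 4 → Reach H8 [4] 6 q := by
  intro q hq hq2 hq3
  refine reach_of_rnds' (by norm_num) gensOct gensOct_mem (by decide +kernel) 8 ?_
  revert q
  decide +kernel

theorem four_notMem_Oc : (some 4 : GolayPt) ∉ Oc := by
  unfold Oc
  rw [MaskOf.mem_support_ofMask]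
  decide +kernel

theorem six_notMem_Oc : (some 6 : GolayPt) ∉ Oc := by
  unfold Oc
  rw [MaskOf.mem_support_ofMask]
  decide +kernel

/-- transitivity on triples (octad, two outside points) -/
theorem octad_two_trans (O : Finset GolayPt) (hO : O ∈ octads) (q₁ q₂ : GolayPt) (h1 : q₁ ∉ O)
    (h2 : q₂ ∉ O) (hne : q₁ ≠ q₂) :
    ∃ σ ∈ M24, σ • Oc = O ∧ σ (some 4) = q₁ ∧ σ (some 6) = q₂ := by
  obtain ⟨σ₁, hσ₁, hσ₁O⟩ := M24.octad_trans Oc O Oc_mem hO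
  have hmem := smul_mem_iff hσ₁O
  -- pull the first point back
  have hq1 : σ₁⁻¹ q₁ ∉ Oc := by
    intro h
    apply h1
    have := (hmem (σ₁⁻¹ q₁)).mpr h
    have e : σ₁ (σ₁⁻¹ q₁) = q₁ := (Equiv.eq_symm_apply σ₁).mp rfl
    rwa [e] at this
  obtain ⟨τ₁, hτ₁, hτ₁O, hτ₁q⟩ := stab_octad_trans (σ₁⁻¹ q₁) hq1
  have hmem1 := smul_mem_iff hτ₁O
  have h4 : gUnidx 4 = (some 4 : GolayPt) := by decide
  have h6 : gUnidx 6 = (some 6 : GolayPt) := by decide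
  rw [h4] at hτ₁q
  -- pull the second point back
  set r := τ₁⁻¹ (σ₁⁻¹ q₂) with hr
  have hτr : τ₁ r = σ₁⁻¹ q₂ := (Equiv.eq_symm_apply τ₁).mp rfl
  have hσr : σ₁ (τ₁ r) = q₂ := by rw [hτr]; exact (Equiv.eq_symm_apply σ₁).mp rfl
  have hrO : r ∉ Oc := by
    intro h
    apply h2
    have a := (hmem1 r).mpr h
    have b := (hmem (τ₁ r)).mpr a
    rwa [hσr] at b
  have hr4 : r ≠ some 4 := by
    intro e
    apply hne
    rw [← hσr, e, hτ₁q]
    exact ((Equiv.eq_symm_apply σ₁).mp rfl).symm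
  have hbit : O₀.testBit (gIdx r) = false := by
    by_contra h
    apply hrO
    unfold Oc
    rw [MaskOf.mem_support_ofMask]
    simpa using h
  have hidx : gIdx r ≠ 4 := by
    intro e
    apply hr4
    rw [← gUnidx_gIdx r, e, h4]
  obtain ⟨τ₂, hτ₂, hfix, hτ₂q⟩ := lvlOct (gIdx r) (gIdx_lt r) hbit hidx
  rw [gUnidx_gIdx, h6] at hτ₂q
  have hfix4 : τ₂ (some 4) = some 4 := by
    have := hfix 4 (by simp)
    rwa [h4] at this
  have hτ₂O : τ₂ • Oc = Oc := MulAction.mem_stabilizer_iff.mp hτ₂.2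
  refine ⟨σ₁ * τ₁ * τ₂, M24.mul_mem (M24.mul_mem hσ₁ hτ₁) hτ₂.1, ?_, ?_, ?_⟩
  · rw [mul_smul, mul_smul, hτ₂O, hτ₁O, hσ₁O]
  · rw [Equiv.Perm.mul_apply, Equiv.Perm.mul_apply, hfix4, hτ₁q]
    exact (Equiv.eq_symm_apply σ₁).mp rfl
  · rw [Equiv.Perm.mul_apply, Equiv.Perm.mul_apply, hτ₂q, hσr]

end Cfsg.Agent.Lib.Helper1.StdCross
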