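import Mathlib
import Cfsg.Agent.Lib.Helper1.StdCross.SCCross

/-!
# Explicit crosses: certificates and counting
-/

set_option autoImplicit false

namespace Cfsg.Agent.Lib.Helper1.StdCross

open Cfsg Cfsg.Agent.Lib.Helper1.LeechCross Cfsg.Agent.Lib.Helper1.LeechAut
  Cfsg.Agent.Lib.Helper1.LeechMono Cfsg.Agent.Lib.Helper1.LeechConn
  Cfsg.Agent.Lib.Helper1.LeechChk
open MulAction
open scoped Pointwise

/-- a certificate for membership in the lattice -/
abbrev Cert := ℤ × ℕ × ℕ × ℕ × ℕ

def chkC (x : GolayPt → ℤ) (c : Cert) : Bool := chk x c.1 c.2.1 c.2.2.1 c.2.2.2.1 c.2.2.2.2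

/-- a vector of a cross, as a flat list of 58 natural numbers: its 24 coordinates (shifted by 16),
a certificate (5 entries), the 24 coordinates of half of its difference to the reference vector
(shifted by 16), a certificate (5 entries) -/
abbrev Row := List ℕ

/-- decoding of shifted coordinates -/
def dec (l : List ℕ) : List ℤ := l.map (fun (n : ℕ) => (n : ℤ) - 16)

theorem dec_injective : Function.Injective dec := by
  unfold dec
  apply List.map_injective_iff.mpr
  intro a b h
  have : (a : ℤ) = b := by linarith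
  exact_mod_cast this

def rowVec (row : Row) : List ℤ := dec (row.take 24)
def rowHalf (row : Row) : List ℤ := dec ((row.drop 29).take 24)
def rowCert (row : Row) : Cert :=
  ((row.getD 24 0 : ℤ), row.getD 25 0, row.getD 26 0, row.getD 27 0, row.getD 28 0)
def rowCert' (row : Row) : Cert :=
  ((row.getD 53 0 : ℤ), row.getD 54 0, row.getD 55 0, row.getD 56 0, row.getD 57 0)

def rowOK (rl : List ℤ) (row : Row) : Bool :=
  chkC (ofList (rowVec row)) (rowCert row) && chkC (ofList (rowHalf row)) (rowCert' row) &&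
  decide (∀ p : GolayPt, ofList (rowVec row) p - ofList rl p = 2 * ofList (rowHalf row) p) &&
  decide (sqNorm (ofList (rowVec row)) = 64) && decide ((rowVec row).length = 24)

theorem rowOK_sound (rl : List ℤ) (hr : ofList rl ∈ leechLattice) (row : Row)
    (h : rowOK rl row = true) :
    ∃ hm : ofList (rowVec row) ∈ leechLattice,
      (⟨ofList (rowVec row), hm⟩ : leechLattice) ∈ crs ⟨ofList rl, hr⟩ := by
  unfold rowOK chkC at h
  simp only [Bool.and_eq_true, decide_eq_true_eq] at h
  obtain ⟨⟨⟨⟨h1, h2⟩, h3⟩, h4⟩, _⟩ := h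
  refine ⟨chk_sound h1, h4, ?_⟩
  show cl (ofList (rowVec row)) = cl (ofList rl)
  rw [cl_eq_iff, mem_twoL]
  refine ⟨ofList (rowHalf row), chk_sound h2, ?_⟩
  ext p
  rw [dbl_eq, Pi.add_apply, Pi.sub_apply, h3 p]
  ring

theorem ofList_inj {l l' : List ℤ} (hl : l.length = 24) (hl' : l'.length = 24)
    (h : ofList l = ofList l') : l = l' := by
  apply List.ext_getElem (by rw [hl, hl'])
  intro i hi hi'
  have h1 := congrFun h (gUnidx i)
  unfold ofList at h1
  rw [gIdx_gUnidx i (by omega)] at h1
  rw [List.getD_eq_getElem _ _ hi, List.getD_eq_getElem _ _ hi'] at h1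
  exact h1

/-- counting in an explicitly given cross -/
theorem crs_count (r : leechLattice) (hr64 : sqNorm (r : GolayPt → ℤ) = 64)
    (L : List (GolayPt → ℤ)) (hlen : L.length = 48) (hnd : L.Nodup)
    (hmem : ∀ x ∈ L, ∃ hm : x ∈ leechLattice, (⟨x, hm⟩ : leechLattice) ∈ crs r)
    (P : (GolayPt → ℤ) → Prop) [DecidablePred P] :
    {w : leechLattice | w ∈ crs r ∧ P (w : GolayPt → ℤ)}.ncard = (L.filter (fun x => P x)).length ∧
      ∀ w ∈ crs r, (w : GolayPt → ℤ) ∈ L := by
  classical
  set C : Set (GolayPt → ℤ) := Subtype.val '' crs r with hC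
  have hCn : C.ncard = 48 := by
    rw [hC, Set.ncard_image_of_injective _ Subtype.val_injective, ncard_crs hr64]
  have hCfin : C.Finite := Set.finite_of_ncard_ne_zero (by rw [hCn]; norm_num)
  have hsub : (↑L.toFinset : Set (GolayPt → ℤ)) ⊆ C := by
    intro x hx
    rw [Finset.mem_coe, List.mem_toFinset] at hx
    obtain ⟨hm, hmc⟩ := hmem x hx
    exact ⟨⟨x, hm⟩, hmc, rfl⟩
  have heq : (↑L.toFinset : Set (GolayPt → ℤ)) = C := by
    apply Set.eq_of_subset_of_ncard_le hsub _ hCfin
    rw [hCn, Set.ncard_coe_finset, List.toFinset_card_of_nodup hnd, hlen]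
  have hall : ∀ w ∈ crs r, (w : GolayPt → ℤ) ∈ L := by
    intro w hw
    have : (w : GolayPt → ℤ) ∈ C := ⟨w, hw, rfl⟩
    rw [← heq, Finset.mem_coe, List.mem_toFinset] at this
    exact this
  refine ⟨?_, hall⟩
  rw [← Set.ncard_image_of_injective _ Subtype.val_injective]
  have himg : Subtype.val '' {w : leechLattice | w ∈ crs r ∧ P (w : GolayPt → ℤ)} =
      (↑((L.filter (fun x => P x)).toFinset) : Set (GolayPt → ℤ)) := by
    ext x
    rw [Finset.mem_coe, List.mem_toFinset, List.mem_filter]
    constructor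
    · rintro ⟨w, ⟨hw, hP⟩, rfl⟩
      exact ⟨hall w hw, by simpa using hP⟩
    · rintro ⟨hx, hP⟩
      obtain ⟨hm, hmc⟩ := hmem x hx
      exact ⟨⟨x, hm⟩, ⟨hmc, by simpa using hP⟩, rfl⟩
  rw [himg, Set.ncard_coe_finset, List.toFinset_card_of_nodup (hnd.filter _)]

/-- the list of vectors of a list of rows -/
def rowVecs (rows : List Row) : List (GolayPt → ℤ) := rows.map (fun row => ofList (rowVec row))

/-- assembling the certificate -/
theorem crs_count_rows (rl : List ℤ) (hr : ofList rl ∈ leechLattice)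
    (hr64 : sqNorm (ofList rl) = 64) (rows : List Row) (hlen : rows.length = 48)
    (hnd : (rows.map (fun row => row.take 24)).Nodup) (hok : rows.all (rowOK rl) = true)
    (P : (GolayPt → ℤ) → Prop) [DecidablePred P] :
    {w : leechLattice | w ∈ crs ⟨ofList rl, hr⟩ ∧ P (w : GolayPt → ℤ)}.ncard =
        ((rowVecs rows).filter (fun x => P x)).length ∧
      ∀ w ∈ crs ⟨ofList rl, hr⟩, (w : GolayPt → ℤ) ∈ rowVecs rows := by
  rw [List.all_eq_true] at hok
  apply crs_count ⟨ofList rl, hr⟩ hr64 (rowVecs rows) (by unfold rowVecs; rw [List.length_map, hlen])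
  · unfold rowVecs
    have : rows.map (fun row => ofList (rowVec row)) = (rows.map rowVec).map ofList := by
      rw [List.map_map]; rfl
    rw [this]
    have hnd' : (rows.map rowVec).Nodup := by
      have e : rows.map rowVec = (rows.map (fun row => row.take 24)).map dec := by
        rw [List.map_map]; rfl
      rw [e]
      exact hnd.map dec_injective
    apply List.Nodup.map_on _ hnd'
    intro l hl l' hl' e
    rw [List.mem_map] at hl hl'
    obtain ⟨row, hrow, rfl⟩ := hl
    obtain ⟨row', hrow', rfl⟩ := hl'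
    have h1 := hok row hrow
    have h2 := hok row' hrow'
    unfold rowOK at h1 h2
    simp only [Bool.and_eq_true, decide_eq_true_eq] at h1 h2
    exact ofList_inj h1.2 h2.2 e
  · intro x hx
    unfold rowVecs at hx
    rw [List.mem_map] at hx
    obtain ⟨row, hrow, rfl⟩ := hx
    exact rowOK_sound rl hr row (hok row hrow)

end Cfsg.Agent.Lib.Helper1.StdCross
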