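import Mathlib
import Cfsg.Agent.Lib.Helper1.StdCross.SCOct
import Cfsg.Agent.Lib.Helper1.StdCross.SCTransA

/-!
# Transitivity of the monomial group on the vectors of shape (4², 2⁸)
-/

set_option autoImplicit false

namespace Cfsg.Agent.Lib.Helper1.StdCross

open Cfsg Cfsg.Agent.Lib.Helper1.LeechCross Cfsg.Agent.Lib.Helper1.LeechAut
  Cfsg.Agent.Lib.Helper1.LeechXi Cfsg.Agent.Lib.Helper1.LeechShape
  Cfsg.Agent.Lib.Helper1.MaskOf Cfsg.Agent.Lib.Helper1.LeechChk
  Cfsg.Agent.Lib.Helper1.LeechGen Cfsg.Agent.Lib.Helper1.LeechIndex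
  Cfsg.Agent.Lib.Helper1.LeechConn
open scoped Pointwise

/-- the standard vector of shape (4², 2⁸) -/
def e4 : GolayPt → ℤ := fun p => if p = some 5 ∨ p = some 6 then 4 else if p ∈ O0 then 2 else 0

theorem five_notMem_O0 : (some 5 : GolayPt) ∉ O0 := by
  unfold O0
  rw [mem_support_ofMask]
  decide

theorem six_notMem_O0 : (some 6 : GolayPt) ∉ O0 := by
  unfold O0
  rw [mem_support_ofMask]
  decide

theorem e4_of_mem {p : GolayPt} (hp : p ∈ O0) : e4 p = 2 := by
  unfold e4
  have h5 : p ≠ some 5 := fun e => five_notMem_O0 (e ▸ hp)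
  have h6 : p ≠ some 6 := fun e => six_notMem_O0 (e ▸ hp)
  rw [if_neg (by rintro (h | h); exact h5 h; exact h6 h), if_pos hp]

/-- transitivity on triples (octad, two outside points), with another standard triple -/
theorem octad_two_trans' (O : Finset GolayPt) (hO : O ∈ octads) (q₁ q₂ : GolayPt) (h1 : q₁ ∉ O)
    (h2 : q₂ ∉ O) (hne : q₁ ≠ q₂) :
    ∃ σ ∈ M24, σ • O0 = O ∧ σ (some 5) = q₁ ∧ σ (some 6) = q₂ := by
  obtain ⟨σ, hσ, a, b, c⟩ := octad_two_trans O hO q₁ q₂ h1 h2 hne
  obtain ⟨τ, hτ, a', b', c'⟩ := octad_two_trans O0 O0_mem (some 5) (some 6) five_notMem_O0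
    six_notMem_O0 (by decide)
  refine ⟨σ * τ⁻¹, M24.mul_mem hσ (M24.inv_mem hτ), ?_, ?_, ?_⟩
  · have : τ⁻¹ • O0 = Oc := by rw [← a', inv_smul_smul]
    rw [mul_smul, this, a]
  · have : τ⁻¹ (some 5) = some 4 := by rw [← b']; simp
    rw [Equiv.Perm.mul_apply, this, b]
  · have : τ⁻¹ (some 6) = some 6 := by
      rw [Equiv.Perm.inv_eq_iff_eq]; exact c'.symm
    rw [Equiv.Perm.mul_apply, this, c]

/-- sets meeting a fixed set `X` in prescribed subsets with a property, via a table -/
theorem exists_code_inter_gen (X : ℕ) (cidx : ℕ → ℕ) (P : ℕ → Prop)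
    (h : ∀ s ≤ X, s &&& X = s → P s → cidx s < 4096 ∧ cw (cidx s) &&& X = s)
    (S : Finset GolayPt) (hS : S ⊆ support₂ (ofMask X)) (hP : P (maskOf S)) :
    ∃ C ∈ gC, C ∩ support₂ (ofMask X) = S := by
  have h1 := maskOf_and_of_subset hS
  have h2 : maskOf S ≤ X := by
    rw [← h1]
    exact Nat.and_le_right
  obtain ⟨hc, hcw⟩ := h (maskOf S) h2 h1 hP
  refine ⟨support₂ (ofMask (cw (cidx (maskOf S)))), support_cw_mem hc, ?_⟩
  ext p
  rw [Finset.mem_inter, mem_support_ofMask, mem_support_ofMask]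
  have h4 : (cw (cidx (maskOf S)) &&& X).testBit (gIdx p) = (maskOf S).testBit (gIdx p) := by
    rw [hcw]
  rw [Nat.testBit_and, testBit_maskOf] at h4
  constructor
  · rintro ⟨a, b⟩
    rw [a, b] at h4
    simpa using h4.symm
  · intro hp
    have : decide (p ∈ S) = true := by simpa using hp
    rw [this] at h4
    simpa using h4

def cidxB (s : ℕ) : ℕ :=
  (if s.testBit 5 then 306 else 0) ^^^ (if s.testBit 6 then 246 else 0)

theorem cidxB_chk : allBelow (fun s => !(s &&& 5375 == s && (s &&& 5279 == 0)) ||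
    (decide (cidxB s < 4096) && (cw (cidxB s) &&& 5375 == s))) 5376 = true := by
  decide +kernel

theorem cidxB_ok : ∀ s ≤ 5375, s &&& 5375 = s → s &&& 5279 = 0 →
    cidxB s < 4096 ∧ cw (cidxB s) &&& 5375 = s := by
  intro s hs h1 h2
  have := (allBelow_iff _ _).mp cidxB_chk s (by omega)
  simp only [Bool.or_eq_true, Bool.not_eq_true', Bool.and_eq_false_iff, beq_eq_false_iff_ne,
    Bool.and_eq_true, decide_eq_true_eq, beq_iff_eq] at this
  rcases this with (h | h) | h
  · exact absurd h1 h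
  · exact absurd h2 h
  · exact h

theorem sum_e4 : ∑ p ∈ O0, e4 p = 16 := by
  rw [Finset.sum_congr rfl (fun p hp => e4_of_mem hp), Finset.sum_const, O0_mem.2]
  norm_num

theorem mem_X10 (p : GolayPt) :
    p ∈ support₂ (ofMask 5375) ↔ p ∈ O0 ∨ p = some 5 ∨ p = some 6 := by
  unfold O0
  rw [mem_support_ofMask, mem_support_ofMask]
  revert p
  decide +kernel

theorem shE4_normalN {y : GolayPt → ℤ} (hy : y ∈ leechLattice)
    (hq₁ : y (some 5) = 4 ∨ y (some 5) = -4) (hq₂ : y (some 6) = 4 ∨ y (some 6) = -4)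
    (h1 : ∀ p ∈ O0, y p = 2 ∨ y p = -2)
    (h0 : ∀ p, p ∉ O0 → p ≠ some 5 → p ≠ some 6 → y p = 0) :
    ConnN y e4 := by
  classical
  have h56 : (some 5 : GolayPt) ≠ some 6 := by decide
  -- the total sum
  have htot : ∑ p, y p = ∑ p ∈ O0, y p + (y (some 5) + y (some 6)) := by
    rw [← Finset.sum_add_sum_compl O0 y]
    congr 1
    have hsub : ({some 5, some 6} : Finset GolayPt) ⊆ O0ᶜ := by
      intro p hp
      rw [Finset.mem_insert, Finset.mem_singleton] at hp
      rw [Finset.mem_compl]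
      rcases hp with rfl | rfl
      · exact five_notMem_O0
      · exact six_notMem_O0
    rw [← Finset.sum_subset hsub (fun p hp hnp => by
      rw [Finset.mem_insert, Finset.mem_singleton] at hnp
      push Not at hnp
      exact h0 p (Finset.mem_compl.mp hp) hnp.1 hnp.2), Finset.sum_pair h56]
  have hsum : (∑ p ∈ O0, y p) % 8 = (∑ p ∈ O0, e4 p) % 8 := by
    rw [sum_e4]
    obtain ⟨m, hm1, hm2, _⟩ := (mem_leechLattice_iff y).mp hy
    simp only [Int.ModEq] at hm1 hm2
    have hpar : y none % 2 = 0 := by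
      rw [h0 none none_notMem (by simp) (by simp)]; norm_num
    have := hm1 none
    rw [htot] at hm2
    rcases hq₁ with h | h <;> rcases hq₂ with h' | h' <;> rw [h, h'] at hm2 <;> omega
  obtain ⟨C₁, hC₁, hCy⟩ := sign_fix' 5279 cidx8 cidx8_ok y e4
    (fun p hp => by
      have hp' : p ∈ O0 := hp
      rw [e4_of_mem hp']
      exact h1 p hp')
    (fun p hp => by
      have hp' : p ∈ O0 := hp
      rw [e4_of_mem hp']; norm_num) hsum
  have c1 := connN_eps hC₁ hy
  set y₁ := epsF C₁ y with hy₁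
  have y1O : ∀ p ∈ O0, y₁ p = 2 := fun p hp => by rw [hCy p hp, e4_of_mem hp]
  have y15 : y₁ (some 5) = 4 ∨ y₁ (some 5) = -4 := by
    rw [hy₁]; unfold epsF
    split_ifs
    · rcases hq₁ with h | h <;> rw [h] <;> norm_num
    · exact hq₁
  have y16 : y₁ (some 6) = 4 ∨ y₁ (some 6) = -4 := by
    rw [hy₁]; unfold epsF
    split_ifs
    · rcases hq₂ with h | h <;> rw [h] <;> norm_num
    · exact hq₂
  have y10 : ∀ p, p ∉ O0 → p ≠ some 5 → p ≠ some 6 → y₁ p = 0 := by
    intro p hp hp5 hp6
    rw [hy₁]; unfold epsF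
    rw [h0 p hp hp5 hp6]
    simp
  -- the signs of the two fours
  set S : Finset GolayPt := ({some 5, some 6} : Finset GolayPt).filter (fun p => y₁ p = -4) with hS
  have hS96 : S ⊆ support₂ (ofMask 96) := by
    intro p hp
    rw [hS, Finset.mem_filter, Finset.mem_insert, Finset.mem_singleton] at hp
    rw [mem_support_ofMask]
    rcases hp.1 with rfl | rfl <;> decide
  have hSX : S ⊆ support₂ (ofMask 5375) := by
    intro p hp
    rw [hS, Finset.mem_filter, Finset.mem_insert, Finset.mem_singleton] at hp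
    rw [mem_X10]
    exact Or.inr hp.1
  have hP : maskOf S &&& 5279 = 0 := by
    rw [← maskOf_and_of_subset hS96, Nat.and_assoc]
    have : (96 : ℕ) &&& 5279 = 0 := by decide
    rw [this, Nat.and_zero]
  obtain ⟨C₂, hC₂, hCS⟩ := exists_code_inter_gen 5375 cidxB (fun s => s &&& 5279 = 0) cidxB_ok S hSX hP
  have c2 := connN_eps hC₂ c1.mem_right
  have hmemC : ∀ p, p ∈ support₂ (ofMask 5375) → (p ∈ C₂ ↔ p ∈ S) := by
    intro p hp
    rw [← hCS, Finset.mem_inter]
    exact ⟨fun h => ⟨h, hp⟩, fun h => h.1⟩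
  have : epsF C₂ y₁ = e4 := by
    ext p
    unfold epsF
    by_cases hpO : p ∈ O0
    · have hpS : p ∉ S := by
        rw [hS, Finset.mem_filter, Finset.mem_insert, Finset.mem_singleton]
        rintro ⟨rfl | rfl, _⟩
        · exact five_notMem_O0 hpO
        · exact six_notMem_O0 hpO
      have hpC : p ∉ C₂ := fun h => hpS ((hmemC p ((mem_X10 p).mpr (Or.inl hpO))).mp h)
      rw [if_neg hpC, y1O p hpO, e4_of_mem hpO]
    · by_cases hp5 : p = some 5
      · subst hp5
        have hX : (some 5 : GolayPt) ∈ support₂ (ofMask 5375) := (mem_X10 _).mpr (Or.inr (Or.inl rfl))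
        have he : e4 (some 5) = 4 := by unfold e4; rw [if_pos (Or.inl rfl)]
        rw [he]
        by_cases hm : y₁ (some 5) = -4
        · have : (some 5 : GolayPt) ∈ S := by
            rw [hS, Finset.mem_filter]; exact ⟨by simp, hm⟩
          rw [if_pos ((hmemC _ hX).mpr this), hm]; norm_num
        · have : (some 5 : GolayPt) ∉ S := by
            rw [hS, Finset.mem_filter]; exact fun h => hm h.2
          rw [if_neg (fun h => this ((hmemC _ hX).mp h))]
          rcases y15 with h | h
          · exact h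
          · exact absurd h hm
      · by_cases hp6 : p = some 6
        · subst hp6
          have hX : (some 6 : GolayPt) ∈ support₂ (ofMask 5375) :=
            (mem_X10 _).mpr (Or.inr (Or.inr rfl))
          have he : e4 (some 6) = 4 := by unfold e4; rw [if_pos (Or.inr rfl)]
          rw [he]
          by_cases hm : y₁ (some 6) = -4
          · have : (some 6 : GolayPt) ∈ S := by
              rw [hS, Finset.mem_filter]; exact ⟨by simp, hm⟩
            rw [if_pos ((hmemC _ hX).mpr this), hm]; norm_num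
          · have : (some 6 : GolayPt) ∉ S := by
              rw [hS, Finset.mem_filter]; exact fun h => hm h.2
            rw [if_neg (fun h => this ((hmemC _ hX).mp h))]
            rcases y16 with h | h
            · exact h
            · exact absurd h hm
        · have he : e4 p = 0 := by
            unfold e4
            rw [if_neg (by rintro (h | h); exact hp5 h; exact hp6 h), if_neg hpO]
          rw [he, y10 p hpO hp5 hp6]
          simp
  rw [this] at c2
  exact c1.trans c2

theorem shE4_connN {x : GolayPt → ℤ} (hx : x ∈ leechLattice) (h : ShE4 x) : ConnN x e4 := by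
  obtain ⟨O, hO, q₁, q₂, hq₁O, hq₂O, hne, hq₁, hq₂, h1, h0⟩ := h
  obtain ⟨σ, hσ, hσO, hσ5, hσ6⟩ := octad_two_trans' O hO q₁ q₂ hq₁O hq₂O hne
  have hmem := smul_mem_iff hσO
  have h2 := connN_perm hσ hx
  refine h2.trans (shE4_normalN h2.mem_right ?_ ?_ ?_ ?_)
  · show x (σ (some 5)) = 4 ∨ x (σ (some 5)) = -4
    rw [hσ5]; exact hq₁
  · show x (σ (some 6)) = 4 ∨ x (σ (some 6)) = -4
    rw [hσ6]; exact hq₂
  · intro p hp
    exact h1 (σ p) ((hmem p).mpr hp)
  · intro p hp hp5 hp6
    apply h0 (σ p) (fun h => hp ((hmem p).mp h))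
    · intro e
      apply hp5
      rw [← hσ5] at e
      exact σ.injective e
    · intro e
      apply hp6
      rw [← hσ6] at e
      exact σ.injective e

end Cfsg.Agent.Lib.Helper1.StdCross
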